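import Cfsg.Agent.OddHalf.Quat.NoThreeT.Abs
import Cfsg.Agent.Omega.TwoF.TitsAut

/-!
# Node Q: `NoThree` for the Tits group

`T = [Γ, Γ]` has index 2 in `Γ = ²F₄(2)`, `U` the Sylow 2-subgroup of `Γ`, `P s` the minimal parabolic subgroups;
`S = U ∩ T`, `R s = P s ∩ T` are as in `NoThreeT.Abs`.
-/

set_option autoImplicit false
set_option linter.unusedSectionVars false

namespace Cfsg.Agent.OddHalf.Quat.NoThreeT

open Subgroup Cfsg.Agent.ChevalleyStructure.Tits.Data Cfsg.Agent.ChevalleyStructure.Tits.Rank2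
  Cfsg.Agent.ChevalleyStructure.Tits.Sat Cfsg.Agent.ChevalleyStructure.Tits.Final Cfsg.Agent.Omega.TwoF.TitsAut

section letters

variable {Γ : Type*} [Group Γ] {y : ℕ → Γ} (hy : Sat y)

/-- the simple root elements -/
def ys (y : ℕ → Γ) (s : Bool) : Γ := y (if s then 7 else 0)
/-- a correction in `K s` -/
def zs (y : ℕ → Γ) (s : Bool) : Γ := if s then y 3 else 1
/-- generators of `S` modulo `K s` -/
def cs (y : ℕ → Γ) (s : Bool) : Γ := ys y s * zs y s
/-- the order of the root groups -/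
def qs (s : Bool) : ℕ := if s then 4 else 2
/-- the involutions in the root groups -/
def xs (y : ℕ → Γ) (s : Bool) : Γ := if s then y 7 * y 7 else y 0

include hy

theorem ys_pow (s : Bool) : ys y s ^ qs s = 1 := by
  cases s
  · exact pow_od hy (i := 0) (by norm_num)
  · exact pow_od hy (i := 7) (by norm_num)

theorem ys_mem (s : Bool) : ys y s ∈ (rd hy).X s := mem_zpowers _

theorem zs_mem (s : Bool) : zs y s ∈ (rd hy).K s := by
  cases s
  · exact one_mem _
  · exact mem_V' y (by norm_num)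

theorem cs_mem (s : Bool) : cs y s ∈ (rd hy).U := mul_mem ((rd hy).XU s (ys_mem hy s)) ((rd hy).KU s (zs_mem hy s))

theorem xs_mem (s : Bool) : xs y s ∈ (rd hy).X s := by
  cases s
  · exact mem_zpowers _
  · exact mul_mem (mem_zpowers _) (mem_zpowers _)

theorem exists_pow {s : Bool} {x : Γ} (hx : x ∈ (rd hy).X s) : ∃ j : ℕ, x = ys y s ^ j := by
  obtain ⟨k, -, hk⟩ := mem_zpowers_cases (m := qs s) (by cases s <;> decide) (ys_pow hy s) hx
  exact ⟨k, hk⟩

theorem conj_K (s : Bool) {u k : Γ} (hu : u ∈ (rd hy).U) (hk : k ∈ (rd hy).K s) : u * k * u⁻¹ ∈ (rd hy).K s := by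
  obtain ⟨x, hx, k', hk', rfl⟩ := (rd hy).fac s u hu
  have h1 : k' * k * k'⁻¹ ∈ (rd hy).K s := mul_mem (mul_mem hk' hk) (inv_mem hk')
  have e : (x * k') * k * (x * k')⁻¹ = x * (k' * k * k'⁻¹) * x⁻¹ := by group
  rw [e]
  cases s
  · exact V_norm hy (by norm_num) x hx _ h1
  · exact V'_norm hy x hx _ h1

theorem conj_K' (s : Bool) {u k : Γ} (hu : u ∈ (rd hy).U) (hk : k ∈ (rd hy).K s) : u⁻¹ * k * u ∈ (rd hy).K s := by
  have := conj_K hy s (inv_mem hu) hk
  rwa [inv_inv] at this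

theorem conj_K_P (s : Bool) {r k : Γ} (hr : r ∈ Pp (rd hy) s) (hk : k ∈ (rd hy).K s) : r * k * r⁻¹ ∈ (rd hy).K s := by
  rcases P_cases (rd hy) hr with h | ⟨x, hx, v, hv, rfl⟩
  · exact conj_K hy s h hk
  · have e : x * (rd hy).n s * v * k * (x * (rd hy).n s * v)⁻¹ =
        x * ((rd hy).n s * (v * k * v⁻¹) * ((rd hy).n s)⁻¹) * x⁻¹ := by group
    rw [e, (rd hy).ninv]
    exact conj_K hy s ((rd hy).XU s hx) ((rd hy).nK s _ (conj_K hy s hv hk))

/-- `c ^ j` and `x ^ j` are congruent modulo `K s` -/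
theorem cj (s : Bool) (j : ℕ) : (ys y s ^ j)⁻¹ * cs y s ^ j ∈ (rd hy).K s := by
  induction j with
  | zero => simp [one_mem]
  | succ j ih =>
    have e : (ys y s ^ (j + 1))⁻¹ * cs y s ^ (j + 1) =
        ((ys y s ^ j)⁻¹ * zs y s * ys y s ^ j) * ((ys y s ^ j)⁻¹ * cs y s ^ j) := by
      have h : (ys y s)⁻¹ * cs y s = zs y s := inv_mul_cancel_left _ _
      calc (ys y s ^ (j + 1))⁻¹ * cs y s ^ (j + 1) = (ys y s ^ j)⁻¹ * ((ys y s)⁻¹ * cs y s) * cs y s ^ j := by
            rw [pow_succ' (ys y s), pow_succ' (cs y s), mul_inv_rev]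
            simp only [mul_assoc]
        _ = _ := by rw [h]; simp only [mul_assoc, mul_inv_cancel_left]
    rw [e]
    exact mul_mem (conj_K' hy s ((rd hy).XU s (pow_mem (ys_mem hy s) j)) (zs_mem hy s)) ih

theorem cj' (s : Bool) (j : ℕ) : (cs y s ^ j)⁻¹ * ys y s ^ j ∈ (rd hy).K s := by
  have := inv_mem (cj hy s j)
  rwa [mul_inv_rev, inv_inv] at this

theorem c_pow (s : Bool) : cs y s ^ qs s ∈ (rd hy).K s := by
  have := cj hy s (qs s)
  rwa [ys_pow hy, inv_one, one_mul] at this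

theorem U_cases (s : Bool) {u : Γ} (hu : u ∈ (rd hy).U) : ∃ j : ℕ, (cs y s ^ j)⁻¹ * u ∈ (rd hy).K s := by
  obtain ⟨x, hx, k, hk, rfl⟩ := (rd hy).fac s u hu
  obtain ⟨j, rfl⟩ := exists_pow hy hx
  refine ⟨j, ?_⟩
  rw [← mul_assoc]
  exact mul_mem (cj' hy s j) hk

theorem P_cases' {s : Bool} {r : Γ} (hr : r ∈ Pp (rd hy) s) :
    r ∈ (rd hy).U ∨ ∃ j : ℕ, ∃ v ∈ (rd hy).U, r = cs y s ^ j * (rd hy).n s * v := by
  rcases P_cases (rd hy) hr with h | ⟨x, hx, v, hv, rfl⟩
  · exact Or.inl h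
  · right
    obtain ⟨j, rfl⟩ := exists_pow hy hx
    refine ⟨j, ((rd hy).n s * ((cs y s ^ j)⁻¹ * ys y s ^ j) * (rd hy).n s) * v,
      mul_mem ((rd hy).KU s ((rd hy).nK s _ (cj' hy s j))) hv, ?_⟩
    calc ys y s ^ j * (rd hy).n s * v = cs y s ^ j * (1 * ((cs y s ^ j)⁻¹ * ys y s ^ j) * (rd hy).n s) * v := by group
      _ = cs y s ^ j * (((rd hy).n s * (rd hy).n s) * ((cs y s ^ j)⁻¹ * ys y s ^ j) * (rd hy).n s) * v := by
        rw [(rd hy).nn]
      _ = _ := by group

end letters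

/-! ### the sign -/

section sign

variable {Γ : Type*} [Group Γ] [Finite Γ] {y : ℕ → Γ} (hy : Sat y)
  (hgen : closure (y '' {i | i < 10}) = ⊤) (hcard : Nat.card Γ = 35942400)

include hy

theorem mem_T {g : Γ} (h : Abelianization.of (G := Γ) g = 1) : g ∈ commutator Γ := by
  rw [← Abelianization.ker_of]
  exact h

theorem y0_mem : y 0 ∈ commutator Γ := mem_T hy (comm_image hy Abelianization.of).1

theorem n_mem (s : Bool) : (rd hy).n s ∈ commutator Γ := by
  cases s
  · exact mem_T hy (comm_image hy Abelianization.of).2.1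
  · exact mem_T hy (comm_image hy Abelianization.of).2.2.1

theorem w_mem (s : Bool) (k : ℕ) : w (rd hy).n s k ∈ commutator Γ := by
  induction k generalizing s with
  | zero => rw [w_zero]; exact one_mem _
  | succ k ih => rw [w_succ]; exact mul_mem (n_mem hy s) (ih _)

include hgen hcard

theorem index_T : (commutator Γ).index = 2 := index_commutator hy hgen hcard

theorem y7_not_mem : y 7 ∉ commutator Γ := by
  obtain ⟨χ, hχ⟩ := exists_sign hy hgen hcard
  intro h
  have h3 := Abelianization.commutator_subset_ker χ h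
  rw [MonoidHom.mem_ker, hχ] at h3
  exact absurd h3 (by decide)

theorem y3_not_mem : y 3 ∉ commutator Γ := by
  intro h
  apply y7_not_mem hy hgen hcard
  have e1 := n1_conj hy (j := 7) (by norm_num) (by norm_num)
  have e2 := n2_conj hy (j := 1) (by norm_num)
  have e3 := n1_conj hy (j := 5) (by norm_num) (by norm_num)
  rw [show 8 - 7 = 1 from rfl] at e1
  rw [show 6 - 1 = 5 from rfl] at e2
  rw [show 8 - 5 = 3 from rfl] at e3
  have m8 : y 8 ∈ commutator Γ := n_mem hy false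
  have m9 : y 9 ∈ commutator Γ := n_mem hy true
  have n8 := n1n1 hy
  have n9 := n2n2 hy
  have e : y 7 = y 8 * (y 9 * (y 8 * y 3 * y 8) * y 9) * y 8 := by
    rw [← e3, ← e2, ← e1]
    have a8 : ∀ x : Γ, y 8 * (y 8 * x) = x := fun x => by rw [← mul_assoc, n8, one_mul]
    have a9 : ∀ x : Γ, y 9 * (y 9 * x) = x := fun x => by rw [← mul_assoc, n9, one_mul]
    simp only [mul_assoc, a8, a9, n8, n9, mul_one]
  rw [e]
  exact mul_mem (mul_mem m8 (mul_mem (mul_mem m9 (mul_mem (mul_mem m8 h) m8)) m9)) m8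

theorem cs_mem_T (s : Bool) : cs y s ∈ commutator Γ := by
  cases s
  · show y 0 * 1 ∈ _
    rw [mul_one]; exact y0_mem hy
  · show y 7 * y 3 ∈ _
    rw [Subgroup.mul_mem_iff_of_index_two (index_T hy hgen hcard)]
    exact iff_of_false (y7_not_mem hy hgen hcard) (y3_not_mem hy hgen hcard)

theorem xs_mem_T (s : Bool) : xs y s ∈ commutator Γ := by
  cases s
  · exact y0_mem hy
  · exact Subgroup.mul_self_mem_of_index_two (index_T hy hgen hcard) _

/-- the order of the intersection with `T` -/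
theorem card_inf {P : Subgroup Γ} (hP : y 7 ∈ P) : 2 * Nat.card (P.subgroupOf (commutator Γ)) = Nat.card P := by
  have h1 := (commutator Γ).relIndex_dvd_index_of_normal P
  rw [index_T hy hgen hcard, Nat.dvd_prime Nat.prime_two] at h1
  have h2 : (commutator Γ).relIndex P = 2 := by
    rcases h1 with h | h
    · exact absurd (Subgroup.relIndex_eq_one.1 h hP) (y7_not_mem hy hgen hcard)
    · exact h
  have h3 : Nat.card (P.subgroupOf (commutator Γ)) = Nat.card ((commutator Γ).subgroupOf P) := by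
    rw [Nat.card_congr ((P.subgroupOf (commutator Γ)).equivMapOfInjective _
      (commutator Γ).subtype_injective).toEquiv, Nat.card_congr (((commutator Γ).subgroupOf P).equivMapOfInjective _
      P.subtype_injective).toEquiv, subgroupOf_map_subtype, subgroupOf_map_subtype, inf_comm]
  rw [h3, ← ((commutator Γ).subgroupOf P).index_mul_card]
  show _ = (commutator Γ).relIndex P * _
  rw [h2]

end sign

/-! ### the parabolic subgroups -/

section main

variable {Γ : Type*} [Group Γ] [Finite Γ] {y : ℕ → Γ} (hy : Sat y)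
  (hgen : closure (y '' {i | i < 10}) = ⊤) (hcard : Nat.card Γ = 35942400) (hU : Nat.card (V y 0) = 4096)
  (h0 : y 0 ≠ 1) (h7 : y 7 ^ 2 ≠ 1)

include hy hgen hcard hU h0 h7

theorem xs_ne (s : Bool) : xs y s ≠ 1 := by
  cases s
  · exact h0
  · intro h
    apply h7
    rw [pow_two]; exact h

theorem q_dvd (s : Bool) (j : ℕ) (h : ((rd hy).n s)⁻¹ * cs y s ^ j * (rd hy).n s ∈ (rd hy).U) : qs s ∣ j := by
  have hX := card_X hy h0 h7
  have hG : (rd hy).G = ⊤ := by rw [rd_G hy, hgen]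
  rw [(rd hy).ninv] at h
  have h1 : (rd hy).n s * ys y s ^ j * (rd hy).n s ∈ (rd hy).U := by
    have e : (rd hy).n s * ys y s ^ j * (rd hy).n s =
        ((rd hy).n s * cs y s ^ j * (rd hy).n s) * ((rd hy).n s * ((cs y s ^ j)⁻¹ * ys y s ^ j) * (rd hy).n s) := by
      calc (rd hy).n s * ys y s ^ j * (rd hy).n s =
          ((rd hy).n s * cs y s ^ j) * 1 * (((cs y s ^ j)⁻¹ * ys y s ^ j) * (rd hy).n s) := by group
        _ = ((rd hy).n s * cs y s ^ j) * ((rd hy).n s * (rd hy).n s) *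
            (((cs y s ^ j)⁻¹ * ys y s ^ j) * (rd hy).n s) := by rw [(rd hy).nn]
        _ = _ := by group
    rw [e]
    exact mul_mem h ((rd hy).KU s ((rd hy).nK s _ (cj' hy s j)))
  have h2 := neg_mem_U (rd hy) hX hU hG hcard (pow_mem (ys_mem hy s) j) h1
  have h3 : orderOf (ys y s) = qs s := by
    have h4 : Nat.card (zpowers (ys y s)) = qs s := hX s
    rw [← h4, Nat.card_zpowers]
  rw [← h3]
  exact orderOf_dvd_of_pow_eq_one h2

/-- the overgroups of `S` -/
theorem overgroup {H : Subgroup Γ} (hH : ∀ u ∈ (rd hy).U, u ∈ commutator Γ → u ∈ H) {g : Γ} (hg : g ∈ H)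
    (hgT : g ∈ commutator Γ) (hgU : g ∉ (rd hy).U) :
    ∃ s, ∀ r ∈ Pp (rd hy) s, r ∈ commutator Γ → r ∈ H := by
  have hX := card_X hy h0 h7
  have hG : (rd hy).G = ⊤ := by rw [rd_G hy, hgen]
  have hTn : (commutator Γ).Normal := inferInstance
  -- products of two elements outside `T`
  have hab : ∀ a b n : Γ, n ∈ commutator Γ → a * n * b ∈ commutator Γ → a * b ∈ commutator Γ := by
    intro a b n hn h
    have e : a * b = (a * n * a⁻¹)⁻¹ * (a * n * b) := by group
    rw [e]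
    exact mul_mem (inv_mem (hTn.conj_mem _ hn _)) h
  obtain ⟨s, k, hk, u, hu, v, hv, rfl⟩ := mem_All (rd hy) hX hU hG hcard g
  rcases k with _ | k
  · exfalso
    apply hgU
    rw [w_zero, mul_one]
    exact mul_mem hu hv
  refine ⟨s, ?_⟩
  have huv := hab _ _ _ (w_mem hy s (k + 1)) hgT
  have h1 : u * w (rd hy).n s (k + 1) * u⁻¹ ∈ H := by
    have e : u * w (rd hy).n s (k + 1) * u⁻¹ = (u * w (rd hy).n s (k + 1) * v) * (u * v)⁻¹ := by group
    rw [e]
    exact mul_mem hg (inv_mem (hH _ (mul_mem hu hv) huv))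
  have h2 := (rd hy).wX s k (by omega) _ (xs_mem hy s)
  have h3 : (w (rd hy).n (!s) k)⁻¹ * xs y s * w (rd hy).n (!s) k ∈ commutator Γ :=
    mul_mem (mul_mem (inv_mem (w_mem hy _ _)) (xs_mem_T hy hgen hcard s)) (w_mem hy _ _)
  have h4 : u * ((w (rd hy).n (!s) k)⁻¹ * xs y s * w (rd hy).n (!s) k) * u⁻¹ ∈ H :=
    hH _ (mul_mem (mul_mem hu h2) (inv_mem hu)) (hTn.conj_mem _ h3 _)
  have h5 := mul_mem (mul_mem h1 h4) (inv_mem h1)
  have h6 : u * w (rd hy).n s (k + 1) * u⁻¹ * (u * ((w (rd hy).n (!s) k)⁻¹ * xs y s * w (rd hy).n (!s) k) * u⁻¹) *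
      (u * w (rd hy).n s (k + 1) * u⁻¹)⁻¹ = u * ((rd hy).n s * xs y s * (rd hy).n s) * u⁻¹ := by
    rw [w_succ]
    nth_rewrite 4 [← (rd hy).ninv s]
    group
  rw [h6] at h5
  obtain ⟨a, ha, b, hb, h7'⟩ := (rd hy).rk1 s _ (xs_mem hy s) (xs_ne hy hgen hcard hU h0 h7 s)
  have h8 : a * (rd hy).n s * b ∈ commutator Γ := by
    rw [← h7']
    exact mul_mem (mul_mem (n_mem hy s) (xs_mem_T hy hgen hcard s)) (n_mem hy s)
  have hab' := hab _ _ _ (n_mem hy s) h8
  rw [h7'] at h5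
  have haU := (rd hy).XU s ha
  have hbU := (rd hy).XU s hb
  -- `p n p⁻¹ ∈ H`
  have hp : u * a ∈ (rd hy).U := mul_mem hu haU
  have h9 : (u * a) * (rd hy).n s * (u * a)⁻¹ ∈ H := by
    have e : (u * a) * (rd hy).n s * (u * a)⁻¹ = (u * (a * (rd hy).n s * b) * u⁻¹) * (u * (a * b) * u⁻¹)⁻¹ := by group
    rw [e]
    exact mul_mem h5 (inv_mem (hH _ (mul_mem (mul_mem hu (mul_mem haU hbU)) (inv_mem hu)) (hTn.conj_mem _ hab' _)))
  set p := u * a with hpdef
  intro r hr hrT
  have hr' : p⁻¹ * r * p ∈ Pp (rd hy) s := mul_mem (mul_mem (inv_mem (U_le_P (rd hy) s hp)) hr) (U_le_P (rd hy) s hp)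
  have hrT' : p⁻¹ * r * p ∈ commutator Γ := by
    have := hTn.conj_mem _ hrT p⁻¹
    rwa [inv_inv] at this
  rcases P_cases' hy hr' with h | ⟨j, v', hv', e⟩
  · apply hH _ _ hrT
    have e : r = p * (p⁻¹ * r * p) * p⁻¹ := by group
    rw [e]
    exact mul_mem (mul_mem hp h) (inv_mem hp)
  · have hcT : cs y s ^ j ∈ commutator Γ := pow_mem (cs_mem_T hy hgen hcard s) j
    have hvT : v' ∈ commutator Γ := by
      have e2 : v' = ((rd hy).n s)⁻¹ * (cs y s ^ j)⁻¹ * (p⁻¹ * r * p) := by rw [e]; group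
      rw [e2]
      exact mul_mem (mul_mem (inv_mem (n_mem hy s)) (inv_mem hcT)) hrT'
    have e3 : r = (p * cs y s ^ j * p⁻¹) * (p * (rd hy).n s * p⁻¹) * (p * v' * p⁻¹) := by
      have e4 : r = p * (p⁻¹ * r * p) * p⁻¹ := by group
      rw [e4, e]; group
    rw [e3]
    refine mul_mem (mul_mem (hH _ ?_ (hTn.conj_mem _ hcT _)) h9) (hH _ ?_ (hTn.conj_mem _ hvT _))
    · exact mul_mem (mul_mem hp (pow_mem (cs_mem hy s) j)) (inv_mem hp)
    · exact mul_mem (mul_mem hp hv') (inv_mem hp)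

theorem card_R (s : Bool) : Nat.card ((Pp (rd hy) s).subgroupOf (commutator Γ)) = (if s then 5 else 3) * 2048 := by
  have h1 := card_P (rd hy) (card_X hy h0 h7) hU (by rw [rd_G hy, hgen]) hcard s
  have h2 := card_inf hy hgen hcard (P := Pp (rd hy) s) (U_le_P (rd hy) s (mem_V y (by norm_num) (by norm_num)))
  rw [h1] at h2
  cases s
  · have h3 : 2 * Nat.card ((Pp (rd hy) false).subgroupOf (commutator Γ)) = 3 * 4096 := h2
    show _ = 3 * 2048
    omega
  · have h3 : 2 * Nat.card ((Pp (rd hy) true).subgroupOf (commutator Γ)) = 5 * 4096 := h2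
    show _ = 5 * 2048
    omega

theorem card_S : Nat.card ((rd hy).U.subgroupOf (commutator Γ)) = 2048 := by
  have h2 := card_inf hy hgen hcard (P := (rd hy).U) (mem_V y (by norm_num) (by norm_num))
  have h3 : Nat.card (rd hy).U = 4096 := hU
  omega

/-- **the parabolic subgroups are invariant** -/
theorem map_R (γ : MulAut (commutator Γ))
    (hγ : ∀ u ∈ (rd hy).U.subgroupOf (commutator Γ), γ u ∈ (rd hy).U.subgroupOf (commutator Γ)) (s : Bool)
    {r : commutator Γ} (hr : r ∈ (Pp (rd hy) s).subgroupOf (commutator Γ)) :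
    γ r ∈ (Pp (rd hy) s).subgroupOf (commutator Γ) := by
  set R := fun t => (Pp (rd hy) t).subgroupOf (commutator Γ) with hR
  set H : Subgroup (commutator Γ) := (R s).map γ.toMonoidHom with hH
  have hcH : Nat.card H = Nat.card (R s) :=
    (Nat.card_congr ((R s).equivMapOfInjective γ.toMonoidHom γ.injective).toEquiv).symm
  have hSH : (rd hy).U.subgroupOf (commutator Γ) ≤ H := by
    intro x hx
    obtain ⟨z, rfl⟩ := γ.surjective x
    exact ⟨z, U_le_P (rd hy) s (mem_of_map hγ hx), rfl⟩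
  have hnle : ¬ H ≤ (rd hy).U.subgroupOf (commutator Γ) := by
    intro h
    have h2 := Subgroup.card_le_of_le h
    rw [hcH, card_R hy hgen hcard hU h0 h7, card_S hy hgen hcard hU h0 h7] at h2
    cases s <;> norm_num at h2
  obtain ⟨g, hg, hgU⟩ := SetLike.not_le_iff_exists.mp hnle
  obtain ⟨t, ht⟩ := overgroup hy hgen hcard hU h0 h7 (H := H.map (commutator Γ).subtype)
    (fun u hu huT => ⟨⟨u, huT⟩, hSH hu, rfl⟩) (g := (g : Γ)) ⟨g, hg, rfl⟩ g.2 hgU
  have hRt : R t ≤ H := by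
    intro x hx
    obtain ⟨x', hx', e⟩ := ht x hx x.2
    rw [← Subtype.ext e]
    exact hx'
  have hts : t = s := by
    by_contra hne
    have h4 := Subgroup.card_dvd_of_le hRt
    rw [hcH, card_R hy hgen hcard hU h0 h7, card_R hy hgen hcard hU h0 h7] at h4
    cases s <;> cases t <;> first | exact hne rfl | norm_num at h4
  subst hts
  have hEq : R t = H := Subgroup.eq_of_le_of_card_ge hRt hcH.le
  show γ r ∈ R t
  rw [hEq]
  exact ⟨r, hr, rfl⟩

theorem iSup_R : ⨆ s, (Pp (rd hy) s).subgroupOf (commutator Γ) = ⊤ := by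
  have hG : (rd hy).G = ⊤ := by rw [rd_G hy, hgen]
  have hTn : (commutator Γ).Normal := inferInstance
  set M : Subgroup Γ := closure {g | ∃ s, g ∈ Pp (rd hy) s ∧ g ∈ commutator Γ} with hM
  have hMT : M ≤ commutator Γ := by
    rw [hM, closure_le]
    rintro g ⟨s, -, hg⟩
    exact hg
  have hconj : ∀ u ∈ (rd hy).U, ∀ m ∈ M, u * m * u⁻¹ ∈ M := by
    intro u hu
    apply conj_closure
    rintro g ⟨s, hg, hgT⟩
    exact subset_closure ⟨s, mul_mem (mul_mem (U_le_P (rd hy) s hu) hg) (inv_mem (U_le_P (rd hy) s hu)),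
      hTn.conj_mem _ hgT _⟩
  have hall : ∀ g : Γ, ∃ m ∈ M, ∃ u ∈ (rd hy).U, g = m * u := by
    intro g
    have hg : g ∈ (rd hy).G := by rw [hG]; trivial
    have hg' : g ∈ Subgroup.closure (((rd hy).U : Set Γ) ∪ Set.range (rd hy).n) := hg
    have hUl : ∀ x ∈ (rd hy).U, ∀ z : Γ, (∃ m ∈ M, ∃ u ∈ (rd hy).U, z = m * u) →
        ∃ m ∈ M, ∃ u ∈ (rd hy).U, x * z = m * u := by
      rintro x hx z ⟨m, hm, u, hu, rfl⟩
      exact ⟨x * m * x⁻¹, hconj x hx m hm, x * u, mul_mem hx hu, by group⟩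
    have hnl : ∀ s, ∀ z : Γ, (∃ m ∈ M, ∃ u ∈ (rd hy).U, z = m * u) →
        ∃ m ∈ M, ∃ u ∈ (rd hy).U, (rd hy).n s * z = m * u := by
      rintro s z ⟨m, hm, u, hu, rfl⟩
      exact ⟨(rd hy).n s * m, mul_mem (subset_closure ⟨s, n_mem_P (rd hy) s, n_mem hy s⟩) hm, u, hu, by group⟩
    induction hg' using Subgroup.closure_induction_left with
    | one => exact ⟨1, one_mem _, 1, one_mem _, by group⟩
    | mul_left x hx z hz ih =>
      rcases hx with hx | ⟨s, rfl⟩
      · exact hUl x hx z (ih (by rw [hG]; trivial))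
      · exact hnl s z (ih (by rw [hG]; trivial))
    | inv_mul_cancel x hx z hz ih =>
      rcases hx with hx | ⟨s, rfl⟩
      · exact hUl _ (inv_mem hx) z (ih (by rw [hG]; trivial))
      · rw [(rd hy).ninv]
        exact hnl s z (ih (by rw [hG]; trivial))
  have hMle : M ≤ (⨆ s, (Pp (rd hy) s).subgroupOf (commutator Γ)).map (commutator Γ).subtype := by
    rw [hM, closure_le]
    rintro g ⟨s, hg, hgT⟩
    exact ⟨⟨g, hgT⟩, (le_iSup (fun s => (Pp (rd hy) s).subgroupOf (commutator Γ)) s) hg, rfl⟩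
  rw [eq_top_iff]
  intro g _
  obtain ⟨m, hm, u, hu, e⟩ := hall g
  have huT : u ∈ commutator Γ := by
    have e2 : u = m⁻¹ * g := by rw [e]; group
    rw [e2]
    exact mul_mem (inv_mem (hMT hm)) g.2
  have hgM : (g : Γ) ∈ M := by
    rw [e]
    exact mul_mem hm (subset_closure ⟨true, U_le_P (rd hy) true hu, huT⟩)
  obtain ⟨g', hg', e3⟩ := hMle hgM
  rw [← Subtype.ext e3]
  exact hg'

theorem noThree_abs (hs : IsSimpleGroup (commutator Γ)) : NoThree (commutator Γ) := by
  have : Fact (Nat.Prime 2) := ⟨Nat.prime_two⟩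
  have hcS := card_S hy hgen hcard hU h0 h7
  have hidx := index_T hy hgen hcard
  have hcT : Nat.card (commutator Γ) = 17971200 := by
    have := (commutator Γ).index_mul_card
    rw [hidx, hcard] at this
    omega
  have hp : IsPGroup 2 ((rd hy).U.subgroupOf (commutator Γ)) := IsPGroup.of_card (n := 11) (by rw [hcS]; norm_num)
  have hi : ((rd hy).U.subgroupOf (commutator Γ)).index = 8775 := by
    have := ((rd hy).U.subgroupOf (commutator Γ)).index_mul_card
    rw [hcS, hcT] at this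
    omega
  let S : Sylow 2 (commutator Γ) := hp.toSylow (by rw [hi]; norm_num)
  have hS : (S : Subgroup (commutator Γ)) = (rd hy).U.subgroupOf (commutator Γ) := rfl
  have hK : ∀ s : Bool, ∀ k : commutator Γ, (k : Γ) ∈ (rd hy).K s →
      k ∈ cor (S : Subgroup (commutator Γ)) ((Pp (rd hy) s).subgroupOf (commutator Γ)) := by
    intro s k hk r hr
    exact (rd hy).KU s (conj_K_P hy s hr hk)
  refine noThree S ?_ (fun s => (Pp (rd hy) s).subgroupOf (commutator Γ)) ?_ (iSup_R hy hgen hcard hU h0 h7) ?_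
    qs ?_ (fun s => ⟨cs y s, cs_mem_T hy hgen hcard s⟩) (fun s => ⟨(rd hy).n s, n_mem hy s⟩) ?_ ?_ ?_ ?_ ?_ ?_
  · intro h
    rw [hS] at h
    rw [h, Subgroup.index_top] at hi
    norm_num at hi
  · intro s x hx
    exact U_le_P (rd hy) s hx
  · intro γ hγ s r hr
    exact map_R hy hgen hcard hU h0 h7 γ hγ s hr
  · intro s
    cases s
    · exact Or.inl rfl
    · exact Or.inr rfl
  · intro s
    exact cs_mem hy s
  · intro s
    exact n_mem_P (rd hy) s
  · intro s u hu
    obtain ⟨j, hj⟩ := U_cases hy s (u := (u : Γ)) hu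
    exact ⟨j, hK s _ hj⟩
  · intro s r hr
    rcases P_cases' hy (r := (r : Γ)) hr with h | ⟨j, v, hv, e⟩
    · exact Or.inl h
    · right
      have hcT' : cs y s ^ j ∈ commutator Γ := pow_mem (cs_mem_T hy hgen hcard s) j
      have hvT : v ∈ commutator Γ := by
        have e2 : v = ((rd hy).n s)⁻¹ * (cs y s ^ j)⁻¹ * r := by rw [e]; group
        rw [e2]
        exact mul_mem (mul_mem (inv_mem (n_mem hy s)) (inv_mem hcT')) r.2
      exact ⟨j, ⟨v, hvT⟩, hv, Subtype.ext e⟩
  · intro s j h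
    exact q_dvd hy hgen hcard hU h0 h7 s j h
  · intro s
    exact hK s _ (c_pow hy s)

end main

/-! ### the Tits group -/

section Concrete

open Cfsg.Agent.ChevalleyStructure.Tits.Pack Cfsg.Agent.ChevalleyStructure.Tits.Mat
  Cfsg.Agent.ChevalleyStructure.Tits.Order Cfsg.Agent.ChevalleyStructure.Tits.Main
open scoped MatrixGroups

theorem noThree_H0 : NoThree (commutator H0) := by
  have := fin_H0
  exact noThree_abs Sat_yH gen_yH card_H0 card_V_yH (yH_ne_one (by norm_num)) yH7_sq H0_result.2.1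

theorem noThree_T (T : Subgroup (GL I52 (ZMod 2))) (hT : T = H0) : NoThree (commutator T) := by
  subst hT
  exact noThree_H0

theorem noThree_aux {G K : Type*} [Group G] [Group K] (T : Subgroup G) (h : NoThree (commutator T))
    (e : K ≃* commutator T) : NoThree K := NoThree.congr e h

/-- **the Tits group** -/
theorem tits {K : Type*} [Group K] (h : Cfsg.Lie.IsoTits K) : NoThree K := by
  obtain ⟨T, hT, ⟨e⟩⟩ := exists_equiv h
  exact noThree_aux T (noThree_T T hT) e

end Concrete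

end Cfsg.Agent.OddHalf.Quat.NoThreeT
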