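import Cfsg.Agent.OddHalf.Quat.NoThreeCrit

/-!
# Node Q: `NoThree` for the Tits group, abstract part

`K` simple, `S` a Sylow 2-subgroup, `R i` subgroups which contain `S` and generate `K`, invariant under the
automorphisms which fix `S`; `S` acts on `R i / S` with two orbits, on the second one as a cyclic group of order
`q i = 2` or `4`. An automorphism of 3-power order which fixes `S` fixes all cosets `r S`, `r ∈ R i`; each of them
contains a fixed element, therefore `[R i, γ] = [S, γ]` is normal in `K`, and `γ = 1`.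
-/

set_option autoImplicit false

namespace Cfsg.Agent.OddHalf.Quat.NoThreeT

open Subgroup

variable {K : Type*} [Group K]

/-- an invariant coset of a group of order prime to 3 contains a fixed element -/
theorem exists_fix [Finite K] {S : Subgroup K} (h3 : ¬ 3 ∣ Nat.card S) {γ : MulAut K} {k : ℕ} (hk : γ ^ 3 ^ k = 1)
    (hS : ∀ s ∈ S, γ s ∈ S) {r : K} (hr : r⁻¹ * γ r ∈ S) : ∃ s ∈ S, γ (r * s) = r * s := by
  classical
  have : Fintype S := Fintype.ofFinite S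
  have : Fact (Nat.Prime 3) := ⟨Nat.prime_three⟩
  let f : S → S := fun s => ⟨r⁻¹ * γ r * γ s, S.mul_mem hr (hS _ s.2)⟩
  have hf : Function.Injective f := by
    intro a b hab
    have h1 : r⁻¹ * γ r * γ a = r⁻¹ * γ r * γ b := congrArg Subtype.val hab
    exact Subtype.ext (γ.injective (mul_left_cancel h1))
  let σ : Equiv.Perm S := Equiv.ofBijective f (Finite.injective_iff_bijective.1 hf)
  have hσ : ∀ n : ℕ, ∀ s : S, (((σ ^ n) s : S) : K) = r⁻¹ * (γ ^ n) (r * s) := by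
    intro n
    induction n with
    | zero => intro s; simp
    | succ n ih =>
      intro s
      rw [pow_succ', Equiv.Perm.mul_apply]
      show r⁻¹ * γ r * γ (((σ ^ n) s : S) : K) = _
      rw [ih, pow_succ', MulAut.mul_apply, map_mul γ r⁻¹, map_inv]
      group
  have hσk : σ ^ 3 ^ k = 1 := by
    ext s
    rw [hσ, hk]
    simp
  obtain ⟨s, hs⟩ := Equiv.Perm.exists_fixed_point_of_prime (p := 3) (by rwa [← Nat.card_eq_fintype_card]) hσk
  refine ⟨s, s.2, ?_⟩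
  have h1 : r⁻¹ * γ r * γ s = s := congrArg Subtype.val hs
  rw [map_mul]
  calc γ r * γ s = r * (r⁻¹ * γ r * γ s) := by group
    _ = _ := by rw [h1]

theorem mem_of_map [Finite K] {S : Subgroup K} {γ : MulAut K} (hS : ∀ s ∈ S, γ s ∈ S) {x : K} (h : γ x ∈ S) : x ∈ S := by
  have h1 : S.map γ.toMonoidHom = S := by
    apply Subgroup.eq_of_le_of_card_ge
    · rintro _ ⟨u, hu, rfl⟩
      exact hS u hu
    · exact (Nat.card_congr (S.equivMapOfInjective γ.toMonoidHom γ.injective).toEquiv).le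
  rw [← h1] at h
  obtain ⟨y, hy, hyx⟩ := h
  rw [← γ.injective hyx]
  exact hy

/-- the elements of `S` all whose conjugates under `R` are in `S` -/
def cor (S R : Subgroup K) : Subgroup K where
  carrier := {x | ∀ r ∈ R, r * x * r⁻¹ ∈ S}
  mul_mem' := by
    intro a b ha hb r hr
    have h : r * (a * b) * r⁻¹ = (r * a * r⁻¹) * (r * b * r⁻¹) := by group
    rw [h]
    exact S.mul_mem (ha r hr) (hb r hr)
  one_mem' := by
    intro r _
    rw [mul_one, mul_inv_cancel]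
    exact S.one_mem
  inv_mem' := by
    intro a ha r hr
    have h : r * a⁻¹ * r⁻¹ = (r * a * r⁻¹)⁻¹ := by group
    rw [h]
    exact S.inv_mem (ha r hr)

theorem mem_cor {S R : Subgroup K} {x : K} : x ∈ cor S R ↔ ∀ r ∈ R, r * x * r⁻¹ ∈ S := Iff.rfl

theorem cor_le {S R : Subgroup K} : cor S R ≤ S := by
  intro x hx
  have := hx 1 R.one_mem
  rwa [one_mul, inv_one, mul_one] at this

theorem cor_conj {S R : Subgroup K} {x r : K} (hx : x ∈ cor S R) (hr : r ∈ R) : r * x * r⁻¹ ∈ cor S R := by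
  intro t ht
  have h : t * (r * x * r⁻¹) * t⁻¹ = (t * r) * x * (t * r)⁻¹ := by group
  rw [h]
  exact hx _ (R.mul_mem ht hr)

theorem cor_conj' {S R : Subgroup K} {x r : K} (hx : x ∈ cor S R) (hr : r ∈ R) : r⁻¹ * x * r ∈ cor S R := by
  have := cor_conj hx (R.inv_mem hr)
  rwa [inv_inv] at this

theorem cor_map [Finite K] {S R : Subgroup K} {γ : MulAut K} (hS : ∀ s ∈ S, γ s ∈ S) (hR : ∀ r ∈ R, γ r ∈ R) {x : K}
    (hx : x ∈ cor S R) : γ x ∈ cor S R := by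
  intro r hr
  obtain ⟨t, rfl⟩ := γ.surjective r
  have ht := mem_of_map hR hr
  have h := hS _ (hx t ht)
  rwa [map_mul, map_mul, map_inv] at h

theorem rel_mul {S R : Subgroup K} {a b c d : K} (hc : c ∈ R) (h1 : a⁻¹ * b ∈ cor S R)
    (h2 : c⁻¹ * d ∈ cor S R) : (a * c)⁻¹ * (b * d) ∈ cor S R := by
  have h : (a * c)⁻¹ * (b * d) = (c⁻¹ * (a⁻¹ * b) * c) * (c⁻¹ * d) := by group
  rw [h]
  exact mul_mem (cor_conj' h1 hc) h2

theorem rel_pow {S R : Subgroup K} {a b : K} (ha : a ∈ R) (h : a⁻¹ * b ∈ cor S R) (j : ℕ) :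
    (a ^ j)⁻¹ * b ^ j ∈ cor S R := by
  induction j with
  | zero => simp [one_mem]
  | succ j ih =>
    rw [pow_succ, pow_succ]
    exact rel_mul ha ih h

theorem arith {q i k : ℕ} (hq : q = 2 ∨ q = 4) (h : i ^ 3 ^ k ≡ 1 [MOD q]) : i ≡ 1 [MOD q] := by
  obtain ⟨t, ht⟩ : Odd (3 ^ k) := Odd.pow (by decide)
  rw [ht, pow_succ, pow_mul] at h
  have h2 : i ^ 2 % 4 = if i % 2 = 0 then 0 else 1 := by
    have h4 : i % 4 < 4 := Nat.mod_lt _ (by norm_num)
    rw [pow_two, Nat.mul_mod]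
    have h5 : i % 2 = i % 4 % 2 := (Nat.mod_mod_of_dvd i (by norm_num)).symm
    rw [h5]
    interval_cases i % 4 <;> rfl
  have hodd : i % 2 = 1 := by
    by_contra hcon
    have h0 : i % 2 = 0 := by omega
    have h6 : ((i ^ 2) ^ t * i) % 2 = 0 := by rw [Nat.mul_mod, h0, mul_zero, Nat.zero_mod]
    have h7 : ((i ^ 2) ^ t * i) % 2 = 1 % 2 := by
      rcases hq with rfl | rfl
      · exact h
      · exact Nat.ModEq.of_dvd (by norm_num : 2 ∣ 4) h
    omega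
  rw [if_neg (by omega)] at h2
  have h8 : (i ^ 2) ^ t ≡ 1 ^ t [MOD 4] := Nat.ModEq.pow t h2
  rw [one_pow] at h8
  have h9 : (i ^ 2) ^ t * i ≡ 1 * i [MOD 4] := Nat.ModEq.mul_right i h8
  rw [one_mul] at h9
  have h10 : (i ^ 2) ^ t * i ≡ i [MOD q] := by
    rcases hq with rfl | rfl
    · exact Nat.ModEq.of_dvd (by norm_num : 2 ∣ 4) h9
    · exact h9
  exact h10.symm.trans h

/-- **an automorphism of 3-power order fixes the cosets of `S` in `R`** -/
theorem coset_inv [Finite K] {S R : Subgroup K} (hSR : S ≤ R) {q : ℕ} (hq : q = 2 ∨ q = 4) {c n : K} (hc : c ∈ S)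
    (hn : n ∈ R) (h1 : ∀ s ∈ S, ∃ i : ℕ, (c ^ i)⁻¹ * s ∈ cor S R)
    (h2 : ∀ r ∈ R, r ∈ S ∨ ∃ i : ℕ, ∃ s ∈ S, r = c ^ i * n * s)
    (h3 : ∀ i : ℕ, n⁻¹ * c ^ i * n ∈ S → q ∣ i) (h4 : c ^ q ∈ cor S R)
    {γ : MulAut K} {k : ℕ} (hk : γ ^ 3 ^ k = 1) (hS : ∀ s ∈ S, γ s ∈ S) (hR : ∀ r ∈ R, γ r ∈ R) :
    ∀ r ∈ R, r⁻¹ * γ r ∈ S := by
  have hq1 : ¬ q ∣ 1 := by rcases hq with rfl | rfl <;> norm_num
  have hcR : c ∈ R := hSR hc
  have h3' : ∀ i : ℕ, c ^ i ∈ cor S R → q ∣ i := fun i hi => h3 i (cor_le (cor_conj' hi hn))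
  have h4' : ∀ i : ℕ, q ∣ i → c ^ i ∈ cor S R := by
    rintro _ ⟨j, rfl⟩
    rw [pow_mul]
    exact pow_mem h4 j
  -- the action on `c`
  obtain ⟨i, hi⟩ := h1 _ (hS c hc)
  have hb : ∀ m : ℕ, (c ^ i ^ m)⁻¹ * (γ ^ m) c ∈ cor S R := by
    intro m
    induction m with
    | zero => simp [one_mem]
    | succ m ih =>
      have e1 := cor_map hS hR ih
      rw [map_mul, map_inv, map_pow] at e1
      have e2 := rel_pow (pow_mem hcR i) hi (i ^ m)
      rw [← pow_mul, ← pow_succ'] at e2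
      have e3 : (c ^ i ^ (m + 1))⁻¹ * (γ ^ (m + 1)) c =
          ((c ^ i ^ (m + 1))⁻¹ * γ c ^ i ^ m) * ((γ c ^ i ^ m)⁻¹ * γ ((γ ^ m) c)) := by
        rw [pow_succ' γ, MulAut.mul_apply]; group
      rw [e3]
      exact mul_mem e2 e1
  have hi1 : i ≡ 1 [MOD q] := by
    apply arith hq (k := k)
    have e1 := hb (3 ^ k)
    rw [hk, MulAut.one_apply] at e1
    have e2 := inv_mem e1
    rw [mul_inv_rev, inv_inv] at e2
    rcases Nat.eq_zero_or_pos (i ^ 3 ^ k) with h0 | h0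
    · exfalso
      rw [h0, pow_zero, mul_one] at e2
      apply hq1
      apply h3'
      rw [pow_one]
      have := inv_mem e2
      rwa [inv_inv] at this
    · obtain ⟨a, ha⟩ : ∃ a, i ^ 3 ^ k = a + 1 := ⟨i ^ 3 ^ k - 1, by omega⟩
      rw [ha, pow_succ', inv_mul_cancel_left] at e2
      rw [ha]
      have h5 := (Nat.modEq_zero_iff_dvd).2 (h3' a e2)
      exact Nat.ModEq.add_right 1 h5
  have hcc : c⁻¹ * γ c ∈ cor S R := by
    have e1 : c⁻¹ * γ c = (c⁻¹ * c ^ i) * ((c ^ i)⁻¹ * γ c) := by group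
    rw [e1]
    refine mul_mem ?_ hi
    rcases Nat.eq_zero_or_pos i with h0 | h0
    · exfalso
      rw [h0] at hi1
      exact hq1 ((Nat.modEq_zero_iff_dvd).1 hi1.symm)
    · obtain ⟨a, rfl⟩ : ∃ a, i = a + 1 := ⟨i - 1, by omega⟩
      rw [pow_succ', inv_mul_cancel_left]
      apply h4'
      apply (Nat.modEq_zero_iff_dvd).1
      exact Nat.ModEq.add_right_cancel' 1 (by rw [zero_add]; exact hi1)
  have hcj : ∀ j : ℕ, (c ^ j)⁻¹ * (γ c) ^ j ∈ cor S R := rel_pow hcR hcc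
  -- the action on `n`
  have hnS : n ∉ S := by
    intro h
    apply hq1
    apply h3
    rw [pow_one]
    exact S.mul_mem (S.mul_mem (S.inv_mem h) hc) h
  obtain ⟨m, s0, hs0, hm⟩ : ∃ m : ℕ, ∃ s ∈ S, γ n = c ^ m * n * s := by
    rcases h2 _ (hR n hn) with h | h
    · exact absurd (mem_of_map hS h) hnS
    · exact h
  have he : ∀ t : ℕ, ∃ s ∈ S, (γ ^ t) n = c ^ (t * m) * n * s := by
    intro t
    induction t with
    | zero => exact ⟨1, S.one_mem, by simp⟩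
    | succ t ih =>
      obtain ⟨s, hs, e⟩ := ih
      obtain ⟨o, ho⟩ : ∃ o, o = (c ^ (t * m))⁻¹ * (γ c) ^ (t * m) := ⟨_, rfl⟩
      have ho' : o ∈ cor S R := ho ▸ hcj (t * m)
      refine ⟨(n⁻¹ * ((c ^ m)⁻¹ * o * c ^ m) * n) * s0 * γ s,
        S.mul_mem (S.mul_mem (cor_le (cor_conj' (cor_conj' ho' (pow_mem hcR m)) hn)) hs0) (hS s hs), ?_⟩
      have e1 : γ c ^ (t * m) = c ^ (t * m) * o := by rw [ho]; group
      rw [pow_succ', MulAut.mul_apply, e, map_mul, map_mul, map_pow, e1, hm, add_mul, one_mul, pow_add]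
      group
  have hqm : q ∣ m := by
    obtain ⟨s, hs, e⟩ := he (3 ^ k)
    rw [hk, MulAut.one_apply] at e
    have e1 : n⁻¹ * c ^ (3 ^ k * m) * n = s⁻¹ := by
      rw [eq_inv_iff_mul_eq_one]
      calc n⁻¹ * c ^ (3 ^ k * m) * n * s = n⁻¹ * (c ^ (3 ^ k * m) * n * s) := by group
        _ = 1 := by rw [← e, inv_mul_cancel]
    have e2 := h3 _ (by rw [e1]; exact S.inv_mem hs)
    refine Nat.Coprime.dvd_of_dvd_mul_left ?_ e2
    rcases hq with rfl | rfl
    · exact Nat.Coprime.pow_right k (by norm_num)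
    · exact Nat.Coprime.pow_right k (by norm_num)
  intro r hr
  rcases h2 r hr with h | ⟨j, s, hs, rfl⟩
  · exact S.mul_mem (S.inv_mem h) (hS r h)
  · have e : (c ^ j * n * s)⁻¹ * γ (c ^ j * n * s) =
        s⁻¹ * (n⁻¹ * (((c ^ j)⁻¹ * (γ c) ^ j) * c ^ m) * n) * s0 * γ s := by
      rw [map_mul, map_mul, map_pow, hm]; group
    rw [e]
    exact S.mul_mem (S.mul_mem (S.mul_mem (S.inv_mem hs) (cor_le (cor_conj' (mul_mem (hcj j) (h4' m hqm)) hn))) hs0)
      (hS s hs)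

/-- **the automorphism is trivial** -/
theorem eq_one [Finite K] [IsSimpleGroup K] {S : Subgroup K} (hne : S ≠ ⊤) (h3 : ¬ 3 ∣ Nat.card S) {I : Type*}
    {R : I → Subgroup K} (hSR : ∀ i, S ≤ R i) (hgen : ⨆ i, R i = ⊤) {γ : MulAut K} {k : ℕ} (hk : γ ^ 3 ^ k = 1)
    (hS : ∀ s ∈ S, γ s ∈ S) (hR : ∀ i, ∀ r ∈ R i, r⁻¹ * γ r ∈ S) : γ = 1 := by
  set D : Subgroup K := closure {x | ∃ s ∈ S, x = s⁻¹ * γ s} with hD
  have h1 : ∀ i, ∀ r ∈ R i, r⁻¹ * γ r ∈ D := by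
    intro i r hr
    obtain ⟨s, hs, e⟩ := exists_fix h3 hk hS (hR i r hr)
    rw [map_mul] at e
    refine subset_closure ⟨s⁻¹, S.inv_mem hs, ?_⟩
    rw [map_inv, inv_inv, eq_mul_inv_iff_mul_eq]
    calc r⁻¹ * γ r * γ s = r⁻¹ * (γ r * γ s) := by group
      _ = s := by rw [e]; group
  have h2 : ∀ i, ∀ r ∈ R i, ∀ x ∈ D, r⁻¹ * x * r ∈ D := by
    intro i r hr x hx
    rw [hD] at hx
    induction hx using closure_induction with
    | mem x hx =>
      obtain ⟨s, hs, rfl⟩ := hx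
      have e : r⁻¹ * (s⁻¹ * γ s) * r = ((s * r)⁻¹ * γ (s * r)) * (r⁻¹ * γ r)⁻¹ := by rw [map_mul]; group
      rw [e]
      exact mul_mem (h1 i _ ((R i).mul_mem (hSR i hs) hr)) (inv_mem (h1 i r hr))
    | one => simp [one_mem]
    | mul a b _ _ ha hb =>
      have e : r⁻¹ * (a * b) * r = (r⁻¹ * a * r) * (r⁻¹ * b * r) := by group
      rw [e]
      exact mul_mem ha hb
    | inv a _ ha =>
      have e : r⁻¹ * a⁻¹ * r = (r⁻¹ * a * r)⁻¹ := by group
      rw [e]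
      exact inv_mem ha
  have hN : normalizer (D : Set K) = ⊤ := by
    rw [eq_top_iff, ← hgen, iSup_le_iff]
    intro i r hr
    rw [mem_normalizer_iff]
    intro x
    constructor
    · intro hx
      have := h2 i r⁻¹ ((R i).inv_mem hr) x hx
      rwa [inv_inv] at this
    · intro hx
      have := h2 i r hr _ hx
      have e : r⁻¹ * (r * x * r⁻¹) * r = x := by group
      rw [← e]
      exact this
  have hDn : D.Normal := normalizer_eq_top_iff.1 hN
  have hDS : D ≤ S := by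
    rw [hD, closure_le]
    rintro _ ⟨s, hs, rfl⟩
    exact S.mul_mem (S.inv_mem hs) (hS s hs)
  have hD1 : D = ⊥ := by
    rcases hDn.eq_bot_or_eq_top with h | h
    · exact h
    · exact absurd (top_le_iff.1 (h ▸ hDS)) hne
  have hfix : (⊤ : Subgroup K) ≤ (γ : K ≃* K).toMonoidHom.eqLocus (MonoidHom.id K) := by
    rw [← hgen, iSup_le_iff]
    intro i r hr
    have h4 := h1 i r hr
    rw [hD1, mem_bot, inv_mul_eq_one] at h4
    exact h4.symm
  ext x
  exact hfix (mem_top x)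

/-- **The criterion** -/
theorem noThree [Finite K] [IsSimpleGroup K] (S : Sylow 2 K) (hne : (S : Subgroup K) ≠ ⊤) {I : Type*}
    (R : I → Subgroup K) (hSR : ∀ i, (S : Subgroup K) ≤ R i) (hgen : ⨆ i, R i = ⊤)
    (hinv : ∀ γ : MulAut K, (∀ s ∈ (S : Subgroup K), γ s ∈ (S : Subgroup K)) → ∀ i, ∀ r ∈ R i, γ r ∈ R i)
    (q : I → ℕ) (hq : ∀ i, q i = 2 ∨ q i = 4) (c n : I → K) (hc : ∀ i, c i ∈ (S : Subgroup K)) (hn : ∀ i, n i ∈ R i)
    (h1 : ∀ i, ∀ s ∈ (S : Subgroup K), ∃ j : ℕ, (c i ^ j)⁻¹ * s ∈ cor (S : Subgroup K) (R i))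
    (h2 : ∀ i, ∀ r ∈ R i, r ∈ (S : Subgroup K) ∨ ∃ j : ℕ, ∃ s ∈ (S : Subgroup K), r = c i ^ j * n i * s)
    (h3 : ∀ i, ∀ j : ℕ, (n i)⁻¹ * c i ^ j * n i ∈ (S : Subgroup K) → q i ∣ j)
    (h4 : ∀ i, c i ^ q i ∈ cor (S : Subgroup K) (R i)) : NoThree K := by
  have : Fact (Nat.Prime 2) := ⟨Nat.prime_two⟩
  have hS3 : ¬ 3 ∣ Nat.card (S : Subgroup K) := by
    obtain ⟨m, hm⟩ := IsPGroup.iff_card.1 S.isPGroup'
    rw [hm]
    intro h
    have := Nat.prime_three.dvd_of_dvd_pow h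
    norm_num at this
  have key : ∀ γ : MulAut K, (∀ s ∈ (S : Subgroup K), γ s ∈ (S : Subgroup K)) → (∃ k : ℕ, γ ^ 3 ^ k = 1) → γ = 1 := by
    rintro γ hS ⟨k, hk⟩
    exact eq_one hne hS3 hSR hgen hk hS fun i =>
      coset_inv (hSR i) (hq i) (hc i) (hn i) (h1 i) (h2 i) (h3 i) (h4 i) hk hS (hinv γ hS i)
  intro α hα
  obtain ⟨g, hg⟩ := MulAction.exists_smul_eq K (α • S) S
  have hgS : ∀ s ∈ (S : Subgroup K), (MulAut.conj g * α) s ∈ (S : Subgroup K) := by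
    intro s hs
    have e := congrArg (fun P : Sylow 2 K => (P : Subgroup K)) hg
    have e2 : (MulAut.conj g * α) s ∈ ((g • (α • S) : Sylow 2 K) : Subgroup K) :=
      ⟨_, ⟨s, hs, rfl⟩, rfl⟩
    rw [← e]
    exact e2
  have hαβ : α = MulAut.conj g⁻¹ * (MulAut.conj g * α) := by rw [map_inv, inv_mul_cancel_left]
  rw [hαβ]
  apply NoThreeCrit.mem_of_mul
  refine NoThreeCrit.mem_of_three_part (NoThreeCrit.cube_mem ⟨g⁻¹, hαβ⟩ hα) fun m hm => ?_
  have hmS : ∀ m : ℕ, ∀ s ∈ (S : Subgroup K), ((MulAut.conj g * α) ^ m) s ∈ (S : Subgroup K) := by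
    intro m
    induction m with
    | zero => intro s hs; simpa using hs
    | succ m ih =>
      intro s hs
      rw [pow_succ, MulAut.mul_apply]
      exact ih _ (hgS s hs)
  rw [key _ (hmS m) hm]
  exact one_mem _

end Cfsg.Agent.OddHalf.Quat.NoThreeT
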